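import Groth.Prelude.Def_KRR
import Groth.Agent.Lib.K0Perf9.Basic
import Groth.Agent.Lib.LFResK5.Mul
import Groth.Agent.Lib.RHom.Proj
import Mathlib.Algebra.Homology.HomotopyCategory.MappingCone

/-! A product of classes of maps of bundles that are isomorphisms on a covering vanishes. -/

set_option autoImplicit false
set_option linter.unusedSectionVars false
set_option linter.style.haveILetI false
set_option backward.isDefEq.respectTransparency false
set_option backward.isDefEq.respectTransparency.types false

universe u v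

open CategoryTheory CategoryTheory.Limits CategoryTheory.Pretriangulated AlgebraicGeometry

attribute [local instance] HasDerivedCategory.standard

namespace Groth.Agent.KNil5

variable {X : Scheme.{u}}

/-- Restriction of complexes. -/
noncomputable abbrev rX (U : X.Opens) :
    CochainComplex X.Modules ℤ ⥤ CochainComplex (U : Scheme.{u}).Modules ℤ :=
  (Scheme.Modules.restrictFunctor U.ι).mapHomologicalComplex _

/-- Tensoring on the right commutes with restriction. -/
noncomputable def restrictTensorR (U : X.Opens) (A : X.Modules) :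
    M2.tensorR A ⋙ Scheme.Modules.restrictFunctor U.ι ≅
      Scheme.Modules.restrictFunctor U.ι ⋙ M2.tensorR ((Scheme.Modules.restrictFunctor U.ι).obj A) :=
  NatIso.ofComponents (fun M => M2.restrictTensorIso U.ι M A) fun {M M'} f => by
    refine (RHom.restrictTensorIso_natural U.ι f (𝟙 A)).trans ?_
    rw [CategoryTheory.Functor.map_id]
    rfl

/-- A map of right factors as a natural transformation. -/
noncomputable def tensorNat {A E : X.Modules} (φ : A ⟶ E) : M2.tensorR A ⟶ M2.tensorR E where
  app M := M2.tensorMap (𝟙 M) φ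
  naturality {M M'} f := by
    show M2.tensorMap f (𝟙 A) ≫ M2.tensorMap (𝟙 M') φ = M2.tensorMap (𝟙 M) φ ≫ M2.tensorMap f (𝟙 E)
    rw [← M2.tensorMap_comp, ← M2.tensorMap_comp]
    simp

theorem isIso_restrict_tensorNat (U : X.Opens) {A E : X.Modules} (φ : A ⟶ E)
    [IsIso ((Scheme.Modules.restrictFunctor U.ι).map φ)] (M : X.Modules) :
    IsIso ((Scheme.Modules.restrictFunctor U.ι).map ((tensorNat φ).app M)) := by
  have h := RHom.restrictTensorIso_natural U.ι (𝟙 M) φ
  rw [CategoryTheory.Functor.map_id] at h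
  haveI : IsIso (M2.tensorMap (𝟙 ((Scheme.Modules.restrictFunctor U.ι).obj M))
      ((Scheme.Modules.restrictFunctor U.ι).map φ)) :=
    (inferInstance : IsIso (M2.tensorIso (Iso.refl ((Scheme.Modules.restrictFunctor U.ι).obj M))
      (asIso ((Scheme.Modules.restrictFunctor U.ι).map φ))).hom)
  show IsIso ((Scheme.Modules.restrictFunctor U.ι).map (M2.tensorMap (𝟙 M) φ))
  rw [(Iso.eq_comp_inv _).2 h]
  exact IsIso.comp_isIso' (IsIso.comp_isIso' inferInstance inferInstance) inferInstance

theorem exactAt_tensor (U : X.Opens) {A : X.Modules} (hA : FlatMod.IsFinLocFree A)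
    (C : CochainComplex X.Modules ℤ) (i : ℤ) (h : ((rX U).obj C).ExactAt i) :
    ((rX U).obj (((M2.tensorR A).mapHomologicalComplex _).obj C)).ExactAt i := by
  obtain ⟨_, _⟩ := LFResK5.preservesFinite_tensorR (M2.isFinLocFree_restrict U.ι hA)
  rw [HomologicalComplex.exactAt_iff] at h ⊢
  exact (ShortComplex.exact_iff_of_iso ((C.sc i).mapNatIso (restrictTensorR U A))).2
    (h.map (M2.tensorR ((Scheme.Modules.restrictFunctor U.ι).obj A)))

theorem exactAt_cone_of_quasiIso {C : Type*} [Category C] [Abelian C] [HasDerivedCategory C]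
    {P Q : CochainComplex C ℤ} (φ : P ⟶ Q) [QuasiIso φ] (i : ℤ) :
    (CochainComplex.mappingCone φ).ExactAt i := by
  have hz : IsZero (DerivedCategory.Q.obj (CochainComplex.mappingCone φ)) :=
    (Triangle.isZero₃_iff_isIso₁ _ (DerivedCategory.mappingCone_triangle_distinguished φ)).2
      (inferInstanceAs (IsIso (DerivedCategory.Q.map φ)))
  exact (HomologicalComplex.exactAt_iff_isZero_homology _ _).2
    (((DerivedCategory.homologyFunctor _ i).map_isZero hz).of_iso
      ((DerivedCategory.homologyFunctorFactors _ i).app _).symm)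

theorem exactAt_of_cover {ι : Type*} (U : ι → X.Opens) (hU : ∀ x : X, ∃ i, x ∈ U i)
    (C : CochainComplex X.Modules ℤ) (j : ℤ) (h : ∀ i, ((rX (U i)).obj C).ExactAt j) : C.ExactAt j :=
  (HomologicalComplex.exactAt_iff_isZero_homology _ _).2 (DPerf.isZero_of_cover U hU fun i =>
    ((HomologicalComplex.exactAt_iff_isZero_homology _ _).1 (h i)).of_iso
      ((C.sc j).mapHomologyIso (Scheme.Modules.restrictFunctor (U i).ι)).symm)

open K0Perf9

variable {K : Type v} [CommRing K]

theorem chi_tensor (φK : SGA6.Kvb X →+ K)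
    (hmul : ∀ E F : X.Modules, FlatMod.IsFinLocFree E → FlatMod.IsFinLocFree F →
      φK (KRR.cl X E) * φK (KRR.cl X F) = φK (KRR.cl X (((DCoh.tensorBi (X := X)).obj E).obj F)))
    {A : X.Modules} (hA : FlatMod.IsFinLocFree A) {C : CochainComplex X.Modules ℤ} (hC : Bdd C) :
    Bdd (((M2.tensorR A).mapHomologicalComplex _).obj C) ∧
      φK (chi (((M2.tensorR A).mapHomologicalComplex _).obj C)) = φK (chi C) * φK (KRR.cl X A) := by
  obtain ⟨a, b, hab, hfp⟩ := hC
  have hab' : DCoh.VanishesOutside (((M2.tensorR A).mapHomologicalComplex _).obj C) a b :=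
    fun i hi => (M2.tensorR A).map_isZero (hab i hi)
  refine ⟨⟨a, b, hab', fun i => M2.isFinLocFree_tensor (hfp i) hA⟩, ?_⟩
  rw [chi_eq_sum hab', chi_eq_sum hab, map_sum, map_sum, Finset.sum_mul]
  refine Finset.sum_congr rfl fun i _ => ?_
  simp only [term, map_zsmul, smul_mul_assoc]
  congr 1
  exact (hmul _ _ (hfp i) hA).symm

/-- A product of differences of classes of bundles isomorphic on the members of a covering is zero. -/
theorem prod_eq_zero (φK : SGA6.Kvb X →+ K) (h1 : φK (KRR.cl X (Coh.structureModule X)) = 1)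
    (hO : FlatMod.IsFinLocFree (Coh.structureModule X))
    (hmul : ∀ E F : X.Modules, FlatMod.IsFinLocFree E → FlatMod.IsFinLocFree F →
      φK (KRR.cl X E) * φK (KRR.cl X F) = φK (KRR.cl X (((DCoh.tensorBi (X := X)).obj E).obj F)))
    {ι : Type*} [Fintype ι] (U : ι → X.Opens) (hU : ∀ x : X, ∃ i, x ∈ U i) (A E : ι → X.Modules)
    (f : ∀ i, A i ⟶ E i) (hA : ∀ i, FlatMod.IsFinLocFree (A i)) (hE : ∀ i, FlatMod.IsFinLocFree (E i))
    (hiso : ∀ i, IsIso ((Scheme.Modules.restrictFunctor (U i).ι).map (f i))) :
    ∏ i, (φK (KRR.cl X (E i)) - φK (KRR.cl X (A i))) = 0 := by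
  classical
  have key : ∀ l : List ι, ∃ C : CochainComplex X.Modules ℤ, Bdd C ∧
      φK (chi C) = (l.map fun i => φK (KRR.cl X (E i)) - φK (KRR.cl X (A i))).prod ∧
      ∀ i ∈ l, ∀ j, ((rX (U i)).obj C).ExactAt j := by
    intro l
    induction l with
    | nil =>
      refine ⟨sgl 0 (Coh.structureModule X), bdd_sgl 0 hO, ?_, fun i hi => absurd hi List.not_mem_nil⟩
      rw [chi_sgl hO, List.map_nil, List.prod_nil]
      exact h1
    | cons i l ih =>
      obtain ⟨C, hC, hχ, hex⟩ := ih
      let ψ := (NatTrans.mapHomologicalComplex (tensorNat (f i)) (ComplexShape.up ℤ)).app C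
      obtain ⟨hCA, hχA⟩ := chi_tensor φK hmul (hA i) hC
      obtain ⟨hCE, hχE⟩ := chi_tensor φK hmul (hE i) hC
      obtain ⟨hcone, hχc⟩ := K0Perf9.cone ψ hCA hCE
      refine ⟨_, hcone, ?_, fun k hk j => ?_⟩
      · rw [hχc, map_sub, hχA, hχE, hχ, List.map_cons, List.prod_cons]
        ring
      · let R := Scheme.Modules.restrictFunctor (U k).ι
        haveI : QuasiIso ((rX (U k)).map ψ) := by
          rcases List.mem_cons.1 hk with rfl | hk'
          · haveI := hiso k
            haveI : ∀ n, IsIso (((rX (U k)).map ψ).f n) := fun n => isIso_restrict_tensorNat (U k) (f k) (C.X n)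
            haveI : IsIso ((rX (U k)).map ψ) := HomologicalComplex.Hom.isIso_of_components _
            infer_instance
          · exact ⟨fun n => (quasiIsoAt_iff_exactAt _ n (exactAt_tensor (U k) (hA i) C n (hex k hk' n))).2
              (exactAt_tensor (U k) (hE i) C n (hex k hk' n))⟩
        have h := exactAt_cone_of_quasiIso ((rX (U k)).map ψ) j
        rw [HomologicalComplex.exactAt_iff_isZero_homology] at h ⊢
        exact h.of_iso ((HomologicalComplex.homologyFunctor _ _ j).mapIso
          (CochainComplex.mappingCone.mapHomologicalComplexIso ψ R))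
  obtain ⟨C, hC, hχ, hex⟩ := key (Finset.univ : Finset ι).toList
  rw [← Finset.prod_map_toList, ← hχ,
    chi_of_acyclic hC fun j => exactAt_of_cover U hU C j fun i => hex i (Finset.mem_toList.2 (Finset.mem_univ i)) j,
    map_zero]

end Groth.Agent.KNil5
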