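import Groth.Agent.Lib.KNil5.Cplx
import Groth.Agent.Lib.AmpleElt5.Main
import Groth.Agent.Lib.KModel5.Main
import Groth.Agent.Lib.PairIso.Tilde
import Groth.Agent.Lib.KCoh4.Loc
import Groth.Agent.S3791

/-! The augmentation ideal of the Grothendieck ring of bundles is a nil ideal when an ample module exists. -/

set_option autoImplicit false
set_option linter.unusedSectionVars false
set_option linter.style.haveILetI false
set_option backward.isDefEq.respectTransparency false
set_option backward.isDefEq.respectTransparency.types false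

universe u v

open CategoryTheory CategoryTheory.Limits AlgebraicGeometry

namespace Groth.Agent.KNil5

/-- Independent vectors have a non-zero maximal minor. -/
theorem exists_minor {κ : Type u} [Field κ] {n m : ℕ} (v : Fin m → Fin n → κ) (hv : LinearIndependent κ v) :
    ∃ a : Fin m → Fin n, Function.Injective a ∧ (Matrix.of fun i j => v j (a i)).det ≠ 0 := by
  classical
  let V : Matrix (Fin n) (Fin m) κ := Matrix.of fun i j => v j i
  have hspan : Submodule.span κ (Set.range fun i => V i) = ⊤ := by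
    apply Submodule.eq_top_of_finrank_eq
    rw [Module.finrank_fin_fun, show Submodule.span κ (Set.range fun i => V i) =
      Submodule.span κ (Set.range V.row) from rfl, ← Matrix.rank_eq_finrank_span_row]
    have : V.rank = m := by
      rw [Matrix.rank_eq_finrank_span_cols, show Set.range V.col = Set.range v from rfl,
        finrank_span_eq_card hv, Fintype.card_fin]
    exact this
  obtain ⟨b, hbsub, hbspan, hbli⟩ := exists_linearIndependent κ (Set.range fun i => V i)
  rw [hspan] at hbspan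
  let bas := Module.Basis.mk hbli (by rw [Subtype.range_coe, hbspan])
  haveI : Fintype b := hbli.setFinite.fintype
  have hcard : Fintype.card b = m := by
    rw [← Module.finrank_eq_card_basis bas, Module.finrank_fin_fun]
  let e : Fin m ≃ b := (Fintype.equivFinOfCardEq hcard).symm
  choose a ha using fun j : Fin m => hbsub (e j).2
  refine ⟨a, fun i j hij => e.injective (Subtype.ext ?_), ?_⟩
  · rw [← ha i, ← ha j, hij]
  · have hli : LinearIndependent κ fun i => (Matrix.of fun i j => v j (a i)) i := by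
      have : (fun i => (Matrix.of fun i j => v j (a i)) i) = Subtype.val ∘ e := funext ha
      rw [this]
      exact hbli.comp _ e.injective
    exact ((Matrix.isUnit_iff_isUnit_det _).1 (Matrix.linearIndependent_rows_iff_isUnit.1 hli)).ne_zero

/-- Out of generators of `R^r` over a local ring one can choose a basis. -/
theorem exists_subfamily_bijective {R : Type u} [CommRing R] [IsLocalRing R] {k r : ℕ} (w : Fin k → Fin r → R)
    (hw : ∀ y : Fin r → R, ∃ c : Fin k → R, ∑ i, c i • w i = y) :
    ∃ a : Fin r → Fin k, Function.Bijective fun c : Fin r → R => ∑ i, c i • w (a i) := by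
  let ρ := IsLocalRing.residue R
  let v : Fin r → Fin k → IsLocalRing.ResidueField R := fun j i => ρ (w i j)
  have hv : LinearIndependent (IsLocalRing.ResidueField R) v := by
    rw [Fintype.linearIndependent_iff]
    intro g hg j
    classical
    obtain ⟨c, hc⟩ := hw (Pi.single j 1)
    have h2 : ∀ l : Fin r, ρ ((Pi.single j 1 : Fin r → R) l) = ∑ i, ρ (c i) * v l i := fun l => by
      rw [← hc, Finset.sum_apply, map_sum]
      simp [v, map_mul]
    have h3 : ∑ l, g l * ρ ((Pi.single j 1 : Fin r → R) l) = g j := by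
      rw [Finset.sum_eq_single j (fun l _ hl => by simp [Pi.single_eq_of_ne hl]) (by simp)]
      simp
    rw [← h3]
    simp only [h2, Finset.mul_sum]
    rw [Finset.sum_comm]
    refine Finset.sum_eq_zero fun i _ => ?_
    have h4 := congrFun hg i
    simp only [Finset.sum_apply, Pi.smul_apply, smul_eq_mul, Pi.zero_apply] at h4
    calc ∑ l, g l * (ρ (c i) * v l i) = ρ (c i) * ∑ l, g l * v l i := by
          rw [Finset.mul_sum]; exact Finset.sum_congr rfl fun l _ => by ring
      _ = 0 := by rw [h4, mul_zero]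
  obtain ⟨a, -, ha⟩ := exists_minor v hv
  refine ⟨a, ?_⟩
  let N : Matrix (Fin r) (Fin r) R := Matrix.of fun i j => w (a i) j
  have hN : IsUnit N := by
    rw [Matrix.isUnit_iff_isUnit_det, ← IsLocalRing.notMem_maximalIdeal]
    intro hm
    apply ha
    have h0 : ρ N.det = 0 := (IsLocalRing.residue_eq_zero_iff _).2 hm
    rw [RingHom.map_det] at h0
    rw [← Matrix.det_transpose]
    have e : (Matrix.of fun i j => v j (a i)).transpose = (ρ.mapMatrix N).transpose := by
      ext i j
      simp [Matrix.transpose_apply, RingHom.mapMatrix_apply, N, v]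
    rw [e, Matrix.det_transpose]
    exact h0
  have hs : Function.Surjective N.vecMulLinear := Matrix.vecMul_surjective_iff_isUnit.2 hN
  have hbij : Function.Bijective N.vecMulLinear :=
    ⟨OrzechProperty.injective_of_surjective_endomorphism _ hs, hs⟩
  convert hbij using 1
  funext c
  funext j
  simp [Matrix.vecMul, dotProduct, N]

variable {X : Scheme.{u}}

theorem isFinLocFreeOfRank_restrict {Y : Scheme.{u}} (j : Y ⟶ X) [IsOpenImmersion j] {n : ℕ} {M : X.Modules}
    (h : FlatMod.IsFinLocFreeOfRank n M) : FlatMod.IsFinLocFreeOfRank n (M.restrict j) := fun y => by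
  obtain ⟨U, hU, ⟨i⟩⟩ := h (j y)
  exact ⟨j ⁻¹ᵁ U, hU, ⟨(Scheme.Modules.restrictFunctor _).mapIso ((Scheme.Modules.restrictFunctorIsoPullback j).app M) ≪≫
    M2.pullbackRestrictIso j M U ≪≫ (Scheme.Modules.pullback _).mapIso i ≪≫ M2.freeModPullbackIso _ n⟩⟩

/-- Among generators, some form a basis near a point. -/
theorem exists_nhd_iso {k r : ℕ} {G : X.Modules} (hG : FlatMod.IsFinLocFreeOfRank r G) (p : FlatMod.freeMod X k ⟶ G)
    [Epi p] (x : X) : ∃ (U : X.Opens) (ψ : FlatMod.freeMod X r ⟶ G), x ∈ U ∧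
      IsIso ((Scheme.Modules.restrictFunctor U.ι).map ψ) := by
  classical
  obtain ⟨b⟩ := CurveCoh17.nonempty_stalk_equiv hG x
  have hbas := fun n : ℕ => P1Split.isBas_coprod (fun _ : Fin n => Coh.structureModule X) (fun _ => M1.one ⊤)
    (fun _ => P1Split.isGen_one (X := X) ⊤)
  let e : ∀ n : ℕ, Fin n → ((FlatMod.freeMod X n).presheaf.stalk x : Type u) := fun n i =>
    (FlatMod.freeMod X n).presheaf.germ ⊤ x trivial
      ((Sigma.ι (fun _ : Fin n => Coh.structureModule X) i).app ⊤ (M1.one ⊤))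
  let w : Fin k → Fin r → X.presheaf.stalk x := fun i => b (CurveCoh17.stalkLin p x (e k i))
  have hw : ∀ y, ∃ c : Fin k → X.presheaf.stalk x, ∑ i, c i • w i = y := fun y => by
    obtain ⟨s, hs⟩ := (M1.epi_iff_stalk p).1 inferInstance x (b.symm y)
    obtain ⟨c, hc⟩ := ((hbas k).stalk (x := x) (show x ∈ (⊤ : X.Opens) from trivial)).2 s
    refine ⟨c, ?_⟩
    have h : CurveCoh17.stalkLin p x s = b.symm y := hs
    rw [← hc, map_sum] at h
    simp only [map_smul] at h
    rw [← b.apply_symm_apply y, ← h, map_sum]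
    simp only [map_smul]
    rfl
  obtain ⟨a, ha⟩ := exists_subfamily_bijective w hw
  let σ : FlatMod.freeMod X r ⟶ FlatMod.freeMod X k :=
    Sigma.desc fun i => Sigma.ι (fun _ : Fin k => Coh.structureModule X) (a i)
  have hσ : ∀ i, CurveCoh17.stalkLin σ x (e r i) = e k (a i) := fun i => by
    rw [CurveCoh17.stalkLin_apply]
    refine (M1.germ_naturality σ ⊤ x trivial _).trans ?_
    show (FlatMod.freeMod X k).presheaf.germ ⊤ x trivial
      (((Sigma.ι (fun _ : Fin r => Coh.structureModule X) i) ≫ σ).app ⊤ (M1.one ⊤)) = _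
    rw [Sigma.ι_desc]
  let ψ := σ ≫ p
  have hψx : Function.Surjective ((M1.stalkAb x).map ψ) := fun g => by
    obtain ⟨c, hc⟩ := ha.2 (b g)
    refine ⟨∑ i, c i • e r i, b.injective ?_⟩
    rw [← hc]
    show b (CurveCoh17.stalkLin ψ x (∑ i, c i • e r i)) = _
    rw [map_sum, map_sum]
    refine Finset.sum_congr rfl fun i _ => ?_
    rw [map_smul, map_smul]
    congr 2
    rw [← hσ i]
    exact M1.stalk_comp_apply σ p x (e r i)
  have hGl := M2.isFinLocFree_of_ofRank hG
  have hft : CohB1.IsFT (cokernel ψ) :=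
    M1.isFT_of_epi (cokernel.π ψ) (M1.isFP_isFT (M1.isFP_of_isFinLocFree hGl))
  let U : X.Opens := ⟨(CohB1.support (cokernel ψ))ᶜ, (M1.isClosed_support hft).isOpen_compl⟩
  have hx : x ∈ U := by
    show ¬ ¬ Subsingleton ((cokernel ψ).presheaf.stalk x)
    refine not_not_intro (subsingleton_of_forall_eq 0 fun z => ?_)
    obtain ⟨g, rfl⟩ := (M1.epi_iff_stalk (cokernel.π ψ)).1 inferInstance x z
    obtain ⟨f, rfl⟩ := hψx g
    rw [← M1.stalk_comp_apply ψ (cokernel.π ψ) x f, cokernel.condition, Functor.map_zero]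
    rfl
  refine ⟨U, ψ, hx, ?_⟩
  have hz : IsZero ((Scheme.Modules.restrictFunctor U.ι).obj (cokernel ψ)) :=
    KCoh4.isZero_of_support U.ι (Z := CohB1.support (cokernel ψ)) (Scheme.Opens.range_ι U) subset_rfl
  haveI : Epi ((Scheme.Modules.restrictFunctor U.ι).map ψ) :=
    Preadditive.epi_of_isZero_cokernel _ (hz.of_iso (PreservesCokernel.iso _ ψ).symm)
  exact PairIso.isIso_of_epi_rank (n := r)
    (isFinLocFreeOfRank_restrict U.ι (M2.isFinLocFreeOfRank_freeMod X r)) (isFinLocFreeOfRank_restrict U.ι hG) _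

variable {K : Type v} [CommRing K] [LambdaRing.LambdaOps K] {P : LambdaRing.PosStructure K} {φ : SGA6.Kvb X →+ K}

theorem isNilpotent_cl_sub_rank [ConnectedSpace X] {L : X.Modules} (hL : CohB1.IsAmple L)
    (hK : KRR.IsModel X K P φ) {r : ℕ} {E : X.Modules} (hE : FlatMod.IsFinLocFreeOfRank r E) :
    IsNilpotent (φ (KRR.cl X E) - (r : K)) := by
  haveI := hL.2.1
  have hEl := M2.isFinLocFree_of_ofRank hE
  obtain ⟨n, hn⟩ := RA.exists_globallyGenerated hL E
    (M1.isFP_isQCoh (M1.isFP_of_isFinLocFree hEl)) (M1.isFP_isFT (M1.isFP_of_isFinLocFree hEl))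
  let F := CohB1.tensorMod E (CohB1.tensorPow L n)
  have hLn := (M2.isInvertible_iff_isFinLocFreeOfRank_one _).1 (Amp.isInvertible_tensorPow hL.1 n)
  have hF : FlatMod.IsFinLocFreeOfRank r F := by simpa using M2.isFinLocFreeOfRank_tensor hE hLn
  have hFl := M2.isFinLocFree_of_ofRank hF
  have hfp := M1.isFP_of_isFinLocFree hFl
  obtain ⟨k, p, hp⟩ := GrMod11.exists_epi_freeMod (M1.isFP_isQCoh hfp) (M1.isFP_isFT hfp) (hn n le_rfl)
  choose U ψ hxU hψ using fun x => exists_nhd_iso hF p x
  obtain ⟨s, hs⟩ := isCompact_univ.elim_finite_subcover (fun x => (U x : Set X)) (fun x => (U x).2)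
    (fun x _ => Set.mem_iUnion.2 ⟨x, hxU x⟩)
  have hO : FlatMod.IsFinLocFree (Coh.structureModule X) :=
    M2.isFinLocFree_of_ofRank (KModel5.rankOne_structureModule (X := X))
  have h0 := prod_eq_zero φ hK.map_one hO hK.map_mul (fun x : s => U x.1) (fun y => by
      obtain ⟨x, hx, hy⟩ := Set.mem_iUnion₂.1 (hs (Set.mem_univ y))
      exact ⟨⟨x, hx⟩, hy⟩)
    (fun _ => FlatMod.freeMod X r) (fun _ => F) (fun x => ψ x.1)
    (fun _ => M2.isFinLocFree_of_ofRank (M2.isFinLocFreeOfRank_freeMod X r)) (fun _ => hFl) (fun x => hψ x.1)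
  rw [Finset.prod_const, AmpleElt5.cl_freeMod hK] at h0
  have h1 : IsNilpotent (φ (KRR.cl X F) - (r : K)) := ⟨_, h0⟩
  let u := φ (KRR.cl X L)
  have hFu : φ (KRR.cl X F) = φ (KRR.cl X E) * u ^ n := by
    rw [← AmpleElt5.cl_tensorPow hK hL.1 n,
      hK.map_mul _ _ hEl (M2.isFinLocFree_of_isInvertible (Amp.isInvertible_tensorPow hL.1 n))]
    rfl
  have hu := AmpleElt5.isAmpleElt hK hL
  have h2 : IsNilpotent (u - 1) := Groth.Agent.S3791.result K P u hu u hu.1
  have h3 : IsNilpotent (φ (KRR.cl X E) * (1 - u ^ n)) := by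
    obtain ⟨q, hq⟩ := sub_dvd_pow_sub_pow u 1 n
    rw [one_pow] at hq
    rw [show φ (KRR.cl X E) * (1 - u ^ n) = (u - 1) * (-(φ (KRR.cl X E) * q)) by rw [← neg_sub (u ^ n), hq]; ring]
    exact (Commute.all _ _).isNilpotent_mul_right h2
  have h4 := (Commute.all _ _).isNilpotent_add h1 h3
  rwa [hFu, show φ (KRR.cl X E) * u ^ n - (r : K) + φ (KRR.cl X E) * (1 - u ^ n) = φ (KRR.cl X E) - r by ring] at h4

theorem isNilpotent_of_aug_eq_zero [ConnectedSpace X] {L : X.Modules} (hL : CohB1.IsAmple L)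
    (hK : KRR.IsModel X K P φ) {x : K} (hx : P.aug x = 0) : IsNilpotent x := by
  obtain ⟨e, f, he, hf, rfl⟩ := P.exists_sub x
  obtain ⟨r, E, -, hE, rfl⟩ := (hK.mem_pos_iff e).1 he
  obtain ⟨s, F, -, hF, rfl⟩ := (hK.mem_pos_iff f).1 hf
  rw [map_sub, hK.aug_cl r E hE, hK.aug_cl s F hF, sub_eq_zero, Int.natCast_inj] at hx
  subst hx
  have h := (Commute.all _ _).isNilpotent_sub (isNilpotent_cl_sub_rank hL hK hE) (isNilpotent_cl_sub_rank hL hK hF)
  rwa [sub_sub_sub_cancel_right] at h

end Groth.Agent.KNil5
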