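import Mathlib

/-! Subrings generated by elements congruent to integers modulo nilpotents. -/

set_option autoImplicit false

universe v

open TensorProduct

namespace Groth.Agent.KNil5

variable {K : Type v} [CommRing K] (ε : K →+* ℤ) (h : ∀ x : K, ε x = 0 → IsNilpotent x)

include h in
theorem closure_nilpotent_fg (T : Set K) (hT : T.Finite) :
    (∃ n : ℕ, ∀ f : Fin n → K, (∀ t : Fin n, f t ∈ Subring.closure T ∧ ε (f t) = 0) → ∏ t, f t = 0) ∧
      (Subring.closure T).toAddSubgroup.FG := by
  have hd : ∀ y : K, IsNilpotent (y - (ε y : K)) := fun y => h _ (by simp)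
  constructor
  · let J : Ideal K := Ideal.span ((fun y => y - (ε y : K)) '' T)
    have hJ : J.FG := Submodule.fg_span (hT.image _)
    obtain ⟨n, hn⟩ := hJ.isNilpotent_iff_le_nilradical.2 (Ideal.span_le.2 (by
      rintro _ ⟨y, -, rfl⟩
      exact mem_nilradical.2 (hd y)))
    refine ⟨n, fun f hf => ?_⟩
    have hmem : ∀ x ∈ Subring.closure T, x - (ε x : K) ∈ J := fun x hx => by
      induction hx using Subring.closure_induction with
      | mem y hy => exact Ideal.subset_span ⟨y, hy, rfl⟩
      | zero => simp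
      | one => simp
      | add a b _ _ ha hb =>
        rw [map_add, Int.cast_add, add_sub_add_comm]
        exact J.add_mem ha hb
      | neg a _ ha =>
        rw [map_neg, Int.cast_neg, ← neg_sub', neg_mem_iff]
        exact ha
      | mul a b _ _ ha hb =>
        rw [show a * b - (ε (a * b) : K) = (a - ε a) * b + (ε a : K) * (b - ε b) by
          rw [map_mul, Int.cast_mul]; ring]
        exact J.add_mem (J.mul_mem_right _ ha) (J.mul_mem_left _ hb)
    have hp : ∏ t, f t ∈ J ^ n := by
      have hm := Ideal.prod_mem_prod (ι := Fin n) (s := Finset.univ) (I := fun _ => J) (x := f) (fun t _ => by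
        simpa [(hf t).2] using hmem _ (hf t).1)
      simpa using hm
    rw [hn] at hp
    simpa using hp
  · have hint : ∀ y ∈ T, IsIntegral ℤ y := fun y _ => by
      obtain ⟨N, hN⟩ := hd y
      have h1 : IsIntegral ℤ (y - (ε y : K)) := ⟨Polynomial.X ^ N, Polynomial.monic_X_pow _, by simp [hN]⟩
      simpa using h1.add (isIntegral_algebraMap (R := ℤ) (A := K) (x := ε y))
    have hfg := fg_adjoin_of_finite (R := ℤ) hT hint
    have e : (Subring.closure T).toAddSubgroup = (Algebra.adjoin ℤ T).toSubmodule.toAddSubgroup := by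
      ext x
      show x ∈ Subring.closure T ↔ x ∈ Algebra.adjoin ℤ T
      rw [Algebra.adjoin_int]
      rfl
    rw [e]
    exact (Submodule.fg_iff_addSubgroup_fg _).1 hfg

include h in
theorem isUnit_map_iff (A : Type v) [CommRing A] (y : A ⊗[ℤ] K) :
    IsUnit y ↔ IsUnit (Algebra.TensorProduct.map (AlgHom.id ℤ A) ε.toIntAlgHom y) := by
  let ψ := Algebra.TensorProduct.map (AlgHom.id ℤ A) ε.toIntAlgHom
  let s := Algebra.TensorProduct.map (AlgHom.id ℤ A) (Algebra.ofId ℤ K)
  have key : IsNilpotent (y - s (ψ y)) := by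
    induction y using TensorProduct.induction_on with
    | zero => simp
    | add a b ha hb =>
      rw [map_add, map_add, add_sub_add_comm]
      exact (Commute.all _ _).isNilpotent_add ha hb
    | tmul a x =>
      have e : a ⊗ₜ[ℤ] x - s (ψ (a ⊗ₜ[ℤ] x)) = a ⊗ₜ[ℤ] (x - (ε x : K)) := by
        simp [s, ψ, TensorProduct.tmul_sub]
      rw [e, show a ⊗ₜ[ℤ] (x - (ε x : K)) = (a ⊗ₜ[ℤ] (1 : K)) * ((1 : A) ⊗ₜ[ℤ] (x - (ε x : K))) by simp]
      exact (Commute.all _ _).isNilpotent_mul_left ((h _ (by simp)).map Algebra.TensorProduct.includeRight)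
  refine ⟨fun hy => hy.map ψ, fun hy => ?_⟩
  have := key.isUnit_add_left_of_commute (hy.map s) (Commute.all _ _)
  exact (add_sub_cancel (s (ψ y)) y) ▸ this

end Groth.Agent.KNil5
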